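import Mathlib

/-!
# Second maximal subgroups below a maximal subgroup of odd index with only giant primitive groups

If all primitive groups of the odd degree `n` contain the alternating group, a maximal subgroup of
a point stabiliser is maximal in each maximal subgroup containing it: the other maximal subgroup
is a set stabiliser or acts as a giant, and in both cases the common stabiliser is transitive on
the rest of the orbit.
-/

set_option autoImplicit false
set_option linter.unusedSectionVars false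

open MulAction
open scoped Pointwise

namespace Cfsg.Lib.SecondMaximal

variable {G : Type*} [Group G] [Finite G] {X : Type*} [MulAction G X] [Finite X]

/-- A primitive subgroup realises every even permutation. -/
theorem exists_of_even {n : ℕ} [Fintype X] [DecidableEq X] (hX : Fintype.card X = n)
    (hA : ∀ P : Subgroup (Equiv.Perm (Fin n)), IsPreprimitive P (Fin n) → alternatingGroup (Fin n) ≤ P)
    (U : Subgroup G) (hU : IsPreprimitive U X) {σ : Equiv.Perm X} (hσ : Equiv.Perm.sign σ = 1) :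
    ∃ u ∈ U, ∀ x : X, u • x = σ x := by
  let e : X ≃ Fin n := (Fintype.equivFin X).trans (finCongr hX)
  let ψ : U →* Equiv.Perm (Fin n) :=
    (e.permCongrHom.toMonoidHom).comp ((MulAction.toPermHom G X).comp U.subtype)
  have hψ : ∀ (u : U) (x : X), ψ u (e x) = e ((u : G) • x) := fun u x => by
    simp [ψ, Equiv.permCongr_apply]
  let f : X →ₑ[(fun u : U => (⟨ψ u, ⟨u, rfl⟩⟩ : ψ.range))] Fin n :=
    { toFun := e, map_smul' := fun u x => (hψ u x).symm }
  have hP : IsPreprimitive ψ.range (Fin n) := IsPreprimitive.of_surjective (f := f) e.surjective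
  obtain ⟨u, hu⟩ := hA ψ.range hP
    (show e.permCongr σ ∈ alternatingGroup (Fin n) by
      rw [Equiv.Perm.mem_alternatingGroup, Equiv.Perm.sign_permCongr, hσ])
  refine ⟨u, u.2, fun x => e.injective ?_⟩
  rw [← hψ, hu, Equiv.permCongr_apply, Equiv.symm_apply_apply]

/-- The three-cycle `x ↦ y ↦ z ↦ x`. -/
def cyc [DecidableEq X] (x y z : X) : Equiv.Perm X := Equiv.swap x y * Equiv.swap y z

theorem cyc_apply [DecidableEq X] {x y z : X} (hxy : x ≠ y) (hxz : x ≠ z) (hyz : y ≠ z) :
    cyc x y z x = y ∧ cyc x y z y = z ∧ cyc x y z z = x ∧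
      ∀ w, w ≠ x → w ≠ y → w ≠ z → cyc x y z w = w := by
  refine ⟨?_, ?_, ?_, fun w h1 h2 h3 => ?_⟩ <;>
    simp only [cyc, Equiv.Perm.mul_apply, Equiv.swap_apply_def] <;> grind

theorem sign_cyc [Fintype X] [DecidableEq X] {x y z : X} (hxy : x ≠ y) (hyz : y ≠ z) :
    Equiv.Perm.sign (cyc x y z) = 1 := by
  rw [cyc, map_mul, Equiv.Perm.sign_swap hxy, Equiv.Perm.sign_swap hyz]
  rfl

/-- The main step. -/
theorem transitive_on_orbit [Fintype X] [DecidableEq X] [IsPretransitive G X] (a : X)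
    (hodd : Odd (Fintype.card X))
    (key : ∀ U : Subgroup G, IsPreprimitive U X →
      ∀ σ : Equiv.Perm X, Equiv.Perm.sign σ = 1 → ∃ u ∈ U, ∀ x, u • x = σ x)
    (hG : IsPreprimitive G X) (H K : Subgroup G) (hK : IsCoatom K)
    (hH : K ⊓ stabilizer G a = H)
    (hmax : ∀ H' : Subgroup G, H ≤ H' → H' ≤ stabilizer G a → H' = H ∨ H' = stabilizer G a)
    (hk : 4 ≤ (orbit K a).ncard) :
    ∀ x ∈ orbit K a, x ≠ a → ∀ y ∈ orbit K a, y ≠ a → ∃ h ∈ H, h • x = y := by
  intro x hx hxa y hy hya
  by_cases hxy : x = y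
  · exact ⟨1, one_mem _, by rw [one_smul, hxy]⟩
  have keyG : ∀ σ : Equiv.Perm X, Equiv.Perm.sign σ = 1 → ∃ g : G, ∀ w, g • w = σ w := by
    intro σ hσ
    have : IsPreprimitive (⊤ : Subgroup G) X := by
      let f : X →ₑ[(fun g : G => (⟨g, Subgroup.mem_top g⟩ : (⊤ : Subgroup G)))] X :=
        { toFun := id, map_smul' := fun g w => rfl }
      exact IsPreprimitive.of_surjective (f := f) Function.surjective_id
    obtain ⟨u, -, hu⟩ := key ⊤ this σ hσ
    exact ⟨u, hu⟩
  obtain ⟨z, hz, hzs⟩ : ∃ z ∈ orbit K a, z ∉ ({a, x, y} : Finset X) := by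
    by_contra h
    push Not at h
    have h1 : (orbit K a).ncard ≤ ({a, x, y} : Finset X).card := by
      rw [← Set.ncard_coe_finset]
      exact Set.ncard_le_ncard (fun w hw => h w hw) (Finset.finite_toSet _)
    have h2 : ({a, x, y} : Finset X).card ≤ 3 := Finset.card_le_three
    omega
  simp only [Finset.mem_insert, Finset.mem_singleton, not_or] at hzs
  obtain ⟨hza, hzx, hzy⟩ := hzs
  obtain ⟨hc1, hc2, hc3, hc4⟩ := cyc_apply hxy (Ne.symm hzx) (Ne.symm hzy)
  have hσ : Equiv.Perm.sign (cyc x y z) = 1 := sign_cyc hxy (Ne.symm hzy)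
  have hσa : cyc x y z a = a := hc4 a (Ne.symm hxa) (Ne.symm hya) (Ne.symm hza)
  -- it is enough to realise the cycle inside `K`
  suffices hu : ∃ u ∈ K, ∀ w, u • w = cyc x y z w by
    obtain ⟨u, huK, hu⟩ := hu
    exact ⟨u, hH ▸ ⟨huK, (hu a).trans hσa⟩, (hu x).trans hc1⟩
  by_cases htr : orbit K a = Set.univ
  · -- the transitive case: the action is primitive
    have hKt : IsPretransitive K X := ⟨fun p q => by
      obtain ⟨k₁, hk₁⟩ : p ∈ orbit K a := htr ▸ Set.mem_univ p
      obtain ⟨k₂, hk₂⟩ : q ∈ orbit K a := htr ▸ Set.mem_univ q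
      refine ⟨k₂ * k₁⁻¹, ?_⟩
      subst hk₁ hk₂
      rw [mul_smul, inv_smul_smul]⟩
    refine key K (IsPreprimitive.of_isTrivialBlock_base a fun {B} haB hB => ?_) _ hσ
    by_contra hBt
    rw [IsTrivialBlock, not_or, Set.not_subsingleton_iff] at hBt
    obtain ⟨hB2, hBu⟩ := hBt
    have hmul := hB.ncard_block_mul_ncard_orbit_eq ⟨a, haB⟩
    rw [Nat.card_eq_fintype_card] at hmul
    obtain ⟨hBodd, horbodd⟩ := Nat.odd_mul.1 (hmul ▸ hodd)
    have hB1 : 1 < B.ncard := (Set.one_lt_ncard (Set.toFinite B)).2 hB2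
    have hBn : B.ncard < Fintype.card X := by
      rw [← Nat.card_eq_fintype_card, ← Set.ncard_univ]
      exact Set.ncard_lt_ncard (lt_of_le_of_ne (Set.subset_univ B) hBu) Set.finite_univ
    have ho3 : 3 ≤ (orbit K B).ncard := by
      rcases Nat.lt_or_ge (orbit K B).ncard 2 with h | h
      · interval_cases hc : (orbit K B).ncard
        · exact absurd horbodd (by decide)
        · omega
      · rcases horbodd with ⟨j, hj⟩
        omega
    have hblock : ∀ k ∈ K, ∀ w ∈ B, k • w ∈ B → k • B = B := by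
      intro k hk w hw hkw
      by_contra hne
      have := hB (g₁ := (⟨k, hk⟩ : K)) (g₂ := 1) (by rw [one_smul]; exact hne)
      rw [one_smul] at this
      exact Set.disjoint_left.1 this (Set.smul_mem_smul_set hw) hkw
    set H' := stabilizer G a ⊓ stabilizer G B with hH'
    have hle : H ≤ H' := fun h hh => by
      rw [← hH] at hh
      exact ⟨hh.2, hblock h hh.1 a haB (by rw [show h • a = a from hh.2]; exact haB)⟩
    obtain ⟨b, hbB, hba⟩ := Set.exists_ne_of_one_lt_ncard hB1 a
    obtain ⟨c, hcB⟩ := (Set.ne_univ_iff_exists_notMem B).1 hBu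
    have hH'H : H' = H := by
      refine (hmax H' hle inf_le_left).resolve_right fun h => ?_
      obtain ⟨d, hd⟩ : ∃ d, d ∉ ({a, b, c} : Finset X) := by
        by_contra hh
        push Not at hh
        have h1 := Finset.card_le_card (fun w _ => hh w : (Finset.univ : Finset X) ⊆ {a, b, c})
        have h2 : ({a, b, c} : Finset X).card ≤ 3 := Finset.card_le_three
        rw [Finset.card_univ, ← hmul] at h1
        nlinarith
      simp only [Finset.mem_insert, Finset.mem_singleton, not_or] at hd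
      have hbc : b ≠ c := fun e => hcB (e ▸ hbB)
      have hac : a ≠ c := fun e => hcB (e ▸ haB)
      obtain ⟨e1, -, -, e4⟩ := cyc_apply hbc (Ne.symm hd.2.1) (Ne.symm hd.2.2)
      obtain ⟨g, hg⟩ := keyG (cyc b c d) (sign_cyc hbc (Ne.symm hd.2.2))
      have hga : g ∈ stabilizer G a := (hg a).trans (e4 a hba.symm hac (Ne.symm hd.1))
      rw [← h] at hga
      refine hcB ?_
      rw [← show g • b = c from (hg b).trans e1, ← show g • B = B from hga.2]
      exact Set.smul_mem_smul_set hbB
    -- three points outside the block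
    obtain ⟨k, hkB⟩ : ∃ k : K, k • a = c := exists_smul_eq K a c
    set B₂ := (k : G) • B with hB₂
    have hcB₂ : c ∈ B₂ := hkB ▸ Set.smul_mem_smul_set haB
    have hdisj : ∀ w ∈ B₂, w ∉ B := by
      intro w hw hwB
      obtain ⟨v, hv, rfl⟩ := hw
      have := hblock k k.2 v hv hwB
      exact hcB (this ▸ hcB₂)
    have hB₂c : B₂.ncard = B.ncard := Set.ncard_smul_set _ _
    obtain ⟨c', hc'B₂, hc'c⟩ := Set.exists_ne_of_one_lt_ncard (hB₂c ▸ hB1) c
    obtain ⟨d, hd, hd'⟩ : ∃ d, d ∉ B ∧ d ∉ B₂ := by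
      by_contra hh
      push Not at hh
      have h1 : (Set.univ : Set X).ncard ≤ (B ∪ B₂).ncard := Set.ncard_le_ncard
        (fun w _ => by by_cases hw : w ∈ B; exacts [Or.inl hw, Or.inr (hh w hw)]) (Set.toFinite _)
      have h2 := Set.ncard_union_le B B₂
      rw [Set.ncard_univ, Nat.card_eq_fintype_card, ← hmul] at h1
      nlinarith
    have hc'd : c' ≠ d := fun e => hd' (e ▸ hc'B₂)
    have hcd : c ≠ d := by intro e; rw [e] at hcB₂; exact hd' hcB₂
    obtain ⟨e1, e2, -, e4⟩ := cyc_apply (Ne.symm hc'c) hcd hc'd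
    obtain ⟨g, hg⟩ := keyG (cyc c c' d) (sign_cyc (Ne.symm hc'c) hc'd)
    have hfixB : ∀ w ∈ B, g • w = w := fun w hw => (hg w).trans
      (e4 w (fun e => hcB (e ▸ hw)) (fun e => hdisj c' hc'B₂ (e ▸ hw)) (fun e => hd (e ▸ hw)))
    have hgH : g ∈ H' := by
      refine ⟨hfixB a haB, ?_⟩
      refine Set.eq_of_subset_of_ncard_le ?_ (le_of_eq (Set.ncard_smul_set _ _).symm) (Set.toFinite _)
      rintro _ ⟨w, hw, rfl⟩
      show g • w ∈ B
      rw [hfixB w hw]; exact hw
    rw [hH'H, ← hH] at hgH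
    have hgk : (g * (k : G)) • B = B₂ := by
      by_contra hne
      have h3 := hB (g₁ := (⟨g, hgH.1⟩ * k : K)) (g₂ := k) hne
      refine Set.disjoint_left.1 h3 ?_ hc'B₂
      show c' ∈ (g * k) • B
      rw [mul_smul, ← show g • c = c' from (hg c).trans e1]
      exact Set.smul_mem_smul_set hcB₂
    refine hd' ?_
    rw [← show g • c' = d from (hg c').trans e2, ← hgk, mul_smul]
    exact Set.smul_mem_smul_set hc'B₂
  · -- the intransitive case: `K` is a set stabiliser
    have hKle : K ≤ stabilizer G (orbit K a) := fun k hk => smul_orbit (⟨k, hk⟩ : K) a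
    have hne : stabilizer G (orbit K a) ≠ ⊤ := fun h => by
      refine htr (Set.eq_univ_of_forall fun w => ?_)
      obtain ⟨g, hg⟩ := exists_smul_eq G a w
      have hg' : g • orbit K a = orbit K a := (h ▸ Subgroup.mem_top g : g ∈ stabilizer G (orbit K a))
      rw [← hg, ← hg']
      exact Set.smul_mem_smul_set (mem_orbit_self a)
    have hKeq : stabilizer G (orbit K a) = K :=
      ((hK.le_iff.1 hKle).resolve_left hne)
    obtain ⟨g, hg⟩ := keyG _ hσ
    refine ⟨g, hKeq ▸ ?_, hg⟩
    refine Set.eq_of_subset_of_ncard_le ?_ (le_of_eq (Set.ncard_smul_set _ _).symm) (Set.toFinite _)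
    rintro _ ⟨w, hw, rfl⟩
    show g • w ∈ orbit K a
    rw [hg w]
    by_cases h1 : w = x
    · rw [h1, hc1]; exact hy
    by_cases h2 : w = y
    · rw [h2, hc2]; exact hz
    by_cases h3 : w = z
    · rw [h3, hc3]; exact hx
    rw [hc4 w h1 h2 h3]; exact hw

/-- The theorem. -/
theorem isCoatom_subgroupOf {G : Type*} [Group G] [Finite G] (n : ℕ) (hodd : Odd n)
    (hA : ∀ P : Subgroup (Equiv.Perm (Fin n)), IsPreprimitive P (Fin n) → alternatingGroup (Fin n) ≤ P)
    (M : Subgroup G) (hM : IsCoatom M) (hn : M.index = n) (H : Subgroup G) (hHM : H ≤ M)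
    (hmax : IsCoatom (H.subgroupOf M)) (K : Subgroup G) (hK : IsCoatom K) (hHK : H ≤ K) :
    IsCoatom (H.subgroupOf K) := by
  classical
  by_cases hKM : K = M
  · subst hKM; exact hmax
  letI : Fintype (G ⧸ M) := Fintype.ofFinite _
  have hcard : Fintype.card (G ⧸ M) = n := by rw [← hn, Subgroup.index, Nat.card_eq_fintype_card]
  have hmax' : ∀ H' : Subgroup G, H ≤ H' → H' ≤ M → H' = H ∨ H' = M := by
    intro H' h1 h2
    rcases hmax.le_iff.1 (Subgroup.comap_mono h1 : H.subgroupOf M ≤ H'.subgroupOf M) with h | h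
    · exact Or.inr (le_antisymm h2 (Subgroup.subgroupOf_eq_top.1 h))
    · left
      change H'.subgroupOf M = H.subgroupOf M at h
      have := congrArg (Subgroup.map M.subtype) h
      rwa [Subgroup.subgroupOf_map_subtype, Subgroup.subgroupOf_map_subtype, inf_eq_left.2 h2,
        inf_eq_left.2 hHM] at this
  have hKM' : ¬ K ≤ M := fun h => hKM ((hK.le_iff.1 h).resolve_left hM.1).symm
  have hMK : ¬ M ≤ K := fun h => hKM ((hM.le_iff.1 h).resolve_left hK.1)
  have hinf : K ⊓ M = H := (hmax' _ (le_inf hHK hHM) inf_le_right).resolve_right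
    fun h => hMK (inf_eq_right.1 h)
  have hnt : Nontrivial (G ⧸ M) := by
    rw [← Finite.one_lt_card_iff_nontrivial, ← Subgroup.index]
    exact Subgroup.one_lt_index_of_ne_top hM.1
  set a : G ⧸ M := (QuotientGroup.mk (1 : G)) with ha
  have hst : stabilizer G a = M := MulAction.stabilizer_quotient M
  have hG : IsPreprimitive G (G ⧸ M) :=
    (isCoatom_stabilizer_iff_preprimitive (G := G) (X := G ⧸ M) a).1 (by rw [hst]; exact hM)
  have hmem : ∀ g : G, g ∈ M ↔ g • a = a := fun g => by
    rw [← mem_stabilizer_iff, hst]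
  refine ⟨fun h => hKM' ?_, fun L hL => ?_⟩
  · have := Subgroup.subgroupOf_eq_top.1 h
    exact this.trans hHM
  obtain ⟨l, hl, hlH⟩ := SetLike.exists_of_lt hL
  have hla : (l : G) • a ≠ a := fun e => hlH (by
    have : (l : G) ∈ K ⊓ M := ⟨l.2, (hmem _).2 e⟩
    rwa [hinf] at this)
  have hinL : ∀ h : G, ∀ hh : h ∈ H, (⟨h, hHK hh⟩ : K) ∈ L := fun h hh => hL.le hh
  rcases lt_or_ge (orbit K a).ncard 4 with hk | hk
  · -- the index of `H` in `K` is prime
    have hidx : (H.subgroupOf K).index = (orbit K a).ncard := by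
      rw [← index_stabilizer]
      congr 1
      rw [← hinf]
      ext k
      simp only [Subgroup.mem_subgroupOf, Subgroup.mem_inf, k.2, true_and, mem_stabilizer_iff]
      rw [hmem]
      rfl
    have h2 : 2 ≤ (orbit K a).ncard := (Set.one_lt_ncard (Set.toFinite _)).2
      ⟨a, mem_orbit_self a, _, ⟨l, rfl⟩, fun e => hla e.symm⟩
    have hp : (H.subgroupOf K).index.Prime := by
      rw [hidx]; interval_cases (orbit K a).ncard <;> norm_num
    have hmul := Subgroup.relIndex_mul_index hL.le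
    rcases hp.eq_one_or_self_of_dvd L.index (hmul ▸ dvd_mul_left _ _) with h | h
    · exact Subgroup.index_eq_one.1 h
    · exfalso
      have h1 : (H.subgroupOf K).relIndex L = 1 := by
        rw [h] at hmul
        exact Nat.eq_of_mul_eq_mul_right hp.pos (hmul.trans (one_mul _).symm)
      exact hL.not_ge (Subgroup.relIndex_eq_one.1 h1)
  have htrans := transitive_on_orbit a (hcard ▸ hodd)
    (fun U hU σ hσ => exists_of_even hcard hA U hU hσ) hG H K hK (by rw [hst]; exact hinf)
    (fun H' h1 h2 => by rw [hst] at h2 ⊢; exact hmax' H' h1 h2) hk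
  rw [eq_top_iff]
  intro k _
  by_cases hka : (k : G) • a = a
  · have : (k : G) ∈ K ⊓ M := ⟨k.2, (hmem _).2 hka⟩
    rw [hinf] at this
    exact hinL _ this
  obtain ⟨h, hh, hhl⟩ := htrans _ ⟨l, rfl⟩ hla _ ⟨k, rfl⟩ hka
  have hq : ((h * l)⁻¹ * k : G) ∈ K ⊓ M := by
    refine Subgroup.mem_inf.2
      ⟨K.mul_mem (K.inv_mem (K.mul_mem (hHK hh) l.2)) k.2, (hmem _).2 ?_⟩
    rw [mul_smul, inv_smul_eq_iff, mul_smul]
    exact hhl.symm
  rw [hinf] at hq
  have := mul_mem (mul_mem (hinL h hh) hl) (hinL _ hq)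
  convert this using 1
  exact Subtype.ext (by simp only [Subgroup.coe_mul, mul_inv_cancel_left])

end Cfsg.Lib.SecondMaximal
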